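import Mathlib

/-!
Elementary-abelian subgroups acting in coprime characteristic: joint eigenvectors with non-trivial eigenvalue,
and linear independence of vectors with distinct systems of eigenvalues.
-/

set_option autoImplicit false

namespace Cfsg.Agent.Lib.CrossChar

open Polynomial

variable {K V : Type*} [Field K] [AddCommGroup V] [Module K V]

/-- Vectors with pairwise distinct systems of eigenvalues are linearly independent. -/
theorem linearIndependent_of_eigen {I X : Type*} (f : X → Module.End K V) (μ : I → X → K) (v : I → V)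
    (hv : ∀ i, v i ≠ 0) (hf : ∀ i x, f x (v i) = μ i x • v i) (hμ : Function.Injective μ) :
    LinearIndependent K v := by
  classical
  rw [linearIndependent_iff']
  intro s
  induction s using Finset.induction_on with
  | empty => simp
  | insert i s hi ih =>
    intro g hg
    have hzero : ∀ j ∈ s, g j = 0 := by
      intro j hj
      have hne : μ j ≠ μ i := fun h => hi (hμ h ▸ hj)
      obtain ⟨x, hx⟩ := Function.ne_iff.1 hne
      have h1 := congrArg (f x) hg
      rw [map_sum, map_zero] at h1
      have h2 : ∑ k ∈ insert i s, (g k * (μ k x - μ i x)) • v k = 0 := by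
        calc ∑ k ∈ insert i s, (g k * (μ k x - μ i x)) • v k
            = ∑ k ∈ insert i s, f x (g k • v k) - μ i x • ∑ k ∈ insert i s, g k • v k := by
              rw [Finset.smul_sum, ← Finset.sum_sub_distrib]
              refine Finset.sum_congr rfl fun k _ => ?_
              rw [map_smul, hf, smul_smul, smul_smul, ← sub_smul]
              congr 1; ring
          _ = 0 := by rw [h1, hg]; simp
      rw [Finset.sum_insert hi, sub_self, mul_zero, zero_smul, zero_add] at h2
      exact (mul_eq_zero.1 (ih _ h2 j hj)).resolve_right (sub_ne_zero.2 hx)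
    intro j hj
    rcases Finset.mem_insert.1 hj with rfl | hj
    · rw [Finset.sum_insert hi, Finset.sum_eq_zero (fun k hk => by rw [hzero k hk, zero_smul]),
        add_zero, smul_eq_zero] at hg
      exact hg.resolve_right (hv j)
    · exact hzero j hj

variable [IsAlgClosed K] [FiniteDimensional K V]

/-- A finite commuting family has a common eigenvector in every non-zero invariant subspace. -/
theorem exists_common_eigen {X : Type*} (f : X → Module.End K V) (hcomm : ∀ x y, Commute (f x) (f y))
    (W : Submodule K V) (hW : W ≠ ⊥) (hinv : ∀ x, ∀ w ∈ W, f x w ∈ W) (s : Finset X) :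
    ∃ w ∈ W, w ≠ 0 ∧ ∀ x ∈ s, ∃ μ : K, f x w = μ • w := by
  classical
  induction s using Finset.induction_on generalizing W with
  | empty =>
    obtain ⟨w, hw, hw0⟩ := Submodule.exists_mem_ne_zero_of_ne_bot hW
    exact ⟨w, hw, hw0, by simp⟩
  | insert a s ha ih =>
    haveI : Nontrivial W := Submodule.nontrivial_iff_ne_bot.2 hW
    obtain ⟨μ, hμ⟩ := Module.End.exists_eigenvalue ((f a).restrict (hinv a))
    obtain ⟨w0, hw0⟩ := hμ.exists_hasEigenvector
    have hW' : W ⊓ (f a).eigenspace μ ≠ ⊥ := by
      refine (Submodule.ne_bot_iff _).2 ⟨w0.1, ⟨w0.2, ?_⟩, fun h => hw0.2 (Subtype.ext h)⟩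
      rw [SetLike.mem_coe, Module.End.mem_eigenspace_iff]
      exact congrArg Subtype.val hw0.apply_eq_smul
    have hinv' : ∀ x, ∀ w ∈ W ⊓ (f a).eigenspace μ, f x w ∈ W ⊓ (f a).eigenspace μ := by
      rintro x w ⟨h1, h2⟩
      rw [SetLike.mem_coe, Module.End.mem_eigenspace_iff] at h2
      refine ⟨hinv x w h1, ?_⟩
      rw [SetLike.mem_coe, Module.End.mem_eigenspace_iff]
      have := LinearMap.congr_fun (hcomm a x).eq w
      rw [Module.End.mul_apply, Module.End.mul_apply] at this
      rw [this, h2, map_smul]
    obtain ⟨w, ⟨h1, h2⟩, h3, h4⟩ := ih _ hW' hinv'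
    refine ⟨w, h1, h3, fun x hx => ?_⟩
    rcases Finset.mem_insert.1 hx with rfl | hx
    · exact ⟨μ, Module.End.mem_eigenspace_iff.1 h2⟩
    · exact h4 x hx

omit [IsAlgClosed K] [FiniteDimensional K V] in
/-- A unipotent endomorphism of order prime to the characteristic is the identity. -/
theorem eq_one_of_unipotent {p d : ℕ} (hp : (p : K) ≠ 0) (f : Module.End K V) (hf : f ^ p = 1)
    (hd : (f - 1) ^ d = 0) : f = 1 := by
  have hp0 : 0 < p := Nat.pos_of_ne_zero fun h => hp (by simp [h])
  have hcop : IsCoprime ((X - C (1 : K)) ^ d) (∑ i ∈ Finset.range p, (X : K[X]) ^ i) := by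
    refine IsCoprime.pow_left ((Irreducible.coprime_iff_not_dvd (irreducible_X_sub_C 1)).2 ?_)
    rw [dvd_iff_isRoot]
    simpa [eval_finsetSum, hp0.ne'] using hp
  obtain ⟨a, b, hab⟩ := hcop
  have h1 : X - C (1 : K) = a * (X - C 1) * (X - C 1) ^ d + b * (X ^ p - 1) := by
    rw [← geom_sum_mul, ← C_1]
    linear_combination (X - C (1 : K)) * hab.symm
  have h2 := congrArg (aeval f) h1
  simpa [hd, hf, sub_eq_zero] using h2

/-- An elementary abelian group acting non-trivially in coprime characteristic has a joint eigenvector with a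
non-trivial character. -/
theorem exists_nontrivial_character {A : Type*} [CommGroup A] [Finite A] (σ : A →* Module.End K V) {p : ℕ}
    (hp : (p : K) ≠ 0) (hexp : ∀ a : A, a ^ p = 1) (a₀ : A) (ha₀ : σ a₀ ≠ 1) :
    ∃ (w : V) (ψ : A →* K), w ≠ 0 ∧ ψ a₀ ≠ 1 ∧ ∀ a, σ a w = ψ a • w := by
  classical
  haveI := Fintype.ofFinite A
  have hev : ∃ μ : K, μ ≠ 1 ∧ (σ a₀).HasEigenvalue μ := by
    by_contra hcon
    have hall : ∀ μ, (σ a₀).HasEigenvalue μ → μ = 1 := fun μ hμ =>
      by_contra fun h => hcon ⟨μ, h, hμ⟩
    have htop : (σ a₀).maxGenEigenspace 1 = ⊤ := by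
      refine top_le_iff.1 ?_
      rw [← Module.End.iSup_maxGenEigenspace_eq_top (σ a₀)]
      refine iSup_le fun μ => ?_
      by_cases hμ : (σ a₀).HasEigenvalue μ
      · rw [hall μ hμ]
      · have : (σ a₀).maxGenEigenspace μ = ⊥ := by
          by_contra hne
          exact hμ (Module.End.HasUnifEigenvalue.lt (k := ⊤) zero_lt_one hne)
        rw [this]; exact bot_le
    refine ha₀ (eq_one_of_unipotent hp (σ a₀) (by rw [← map_pow, hexp, map_one])
      (d := Module.finrank K V) ?_)
    rw [← LinearMap.ker_eq_top, ← htop, Module.End.maxGenEigenspace_eq_genEigenspace_finrank,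
      Module.End.genEigenspace_nat, one_smul]
  obtain ⟨μ, hμ1, hμ⟩ := hev
  have hcomm : ∀ x y, Commute (σ x) (σ y) := fun x y => (Commute.all x y).map σ
  obtain ⟨w, hwW, hw0, hw⟩ := exists_common_eigen σ hcomm ((σ a₀).eigenspace μ) hμ
    (fun x w hw => by
      rw [Module.End.mem_eigenspace_iff] at hw ⊢
      have := LinearMap.congr_fun (hcomm a₀ x).eq w
      rw [Module.End.mul_apply, Module.End.mul_apply] at this
      rw [this, hw, map_smul]) Finset.univ
  choose χ hχ using fun a => hw a (Finset.mem_univ a)
  refine ⟨w, { toFun := χ, map_one' := ?_, map_mul' := ?_ }, hw0, ?_, hχ⟩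
  · have := hχ 1
    rw [map_one, Module.End.one_apply] at this
    exact smul_left_injective K hw0 (show χ 1 • w = (1 : K) • w by rw [← this, one_smul])
  · intro x y
    refine smul_left_injective K hw0 (show χ (x * y) • w = (χ x * χ y) • w from ?_)
    rw [← hχ, map_mul, Module.End.mul_apply, hχ, map_smul, hχ, smul_smul, mul_comm]
  · show χ a₀ ≠ 1
    have := hχ a₀
    rw [Module.End.mem_eigenspace_iff.1 hwW] at this
    exact fun h => hμ1 (smul_left_injective K hw0 (this.trans (by rw [h])))

/-- The natural action of an invertible matrix over `K` on column vectors over the algebraic closure. -/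
noncomputable def extendEnd (K : Type*) [Field K] (d : ℕ) :
    GL (Fin d) K →* Module.End (AlgebraicClosure K) (Fin d → AlgebraicClosure K) :=
  ((Matrix.toLinAlgEquiv' : Matrix (Fin d) (Fin d) (AlgebraicClosure K) ≃ₐ[AlgebraicClosure K] _).toMonoidHom.comp
    ((algebraMap K (AlgebraicClosure K)).mapMatrix.toMonoidHom)).comp (Units.coeHom _)

omit [IsAlgClosed K] [FiniteDimensional K V] in
theorem extendEnd_injective (K : Type*) [Field K] (d : ℕ) : Function.Injective (extendEnd K d) := by
  intro a b h
  refine Units.ext (Matrix.map_injective (algebraMap K (AlgebraicClosure K)).injective ?_)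
  exact (Matrix.toLinAlgEquiv').injective h

omit [IsAlgClosed K] [FiniteDimensional K V] in
/-- A unit acts injectively. -/
theorem extendEnd_apply_ne_zero (K : Type*) [Field K] (d : ℕ) (g : GL (Fin d) K)
    {w : Fin d → AlgebraicClosure K} (hw : w ≠ 0) : extendEnd K d g w ≠ 0 := fun h => hw (by
  have := congrArg (extendEnd K d g⁻¹) h
  rwa [map_zero, ← Module.End.mul_apply, ← map_mul, inv_mul_cancel, map_one, Module.End.one_apply] at this)

end Cfsg.Agent.Lib.CrossChar
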