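import Mathlib
import Cfsg.Agent.Lib.LinGroup.SylowCard
import Cfsg.Agent.Lib.PPD.Basic
import Cfsg.Agent.Lib.PPD.Cyclotomic

/-!
Sylow subgroups of `GL_n(q)` and `SL_n(q)` for primes `r > n` prime to `q` are the `r`-parts of tori.
-/

set_option autoImplicit false

namespace Cfsg.Agent.Lib.CrossChar

open Polynomial

/-- The exponent of `r` in `Φ_d(q)`, `d` the order of `q` modulo `r`. -/
noncomputable def rExp (r q : ℕ) : ℕ :=
  (Lib.PPD.cyc (orderOf (q : ZMod r)) q).factorization r

theorem rExp_eq_padicValNat {r q : ℕ} (hr : r.Prime) :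
    rExp r q = padicValNat r ((cyclotomic (orderOf (q : ZMod r)) ℤ).eval (q : ℤ)).natAbs :=
  Nat.factorization_def _ hr

variable {r q : ℕ} [Fact r.Prime]

theorem orderOf_pos_dvd (hrq : ¬ r ∣ q) :
    0 < orderOf (q : ZMod r) ∧ orderOf (q : ZMod r) ∣ r - 1 := by
  have h0 : (q : ZMod r) ≠ 0 := fun h => hrq ((ZMod.natCast_eq_zero_iff _ _).1 h)
  have h1 := ZMod.orderOf_dvd_card_sub_one h0
  exact ⟨Nat.pos_of_ne_zero fun h => by
    rw [h, zero_dvd_iff] at h1
    have := (Fact.out : r.Prime).two_le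
    omega, h1⟩

/-- `r^(rExp r q)` is the `r`-part of `q^d - 1`. -/
theorem factorization_pow_order_sub_one (hq : 2 ≤ q) (hrq : ¬ r ∣ q) :
    (q ^ orderOf (q : ZMod r) - 1).factorization r = rExp r q := by
  obtain ⟨hd, -⟩ := orderOf_pos_dvd hrq
  set d := orderOf (q : ZMod r) with hdd
  have hprod : q ^ d - 1 = ∏ e ∈ d.divisors, Lib.PPD.cyc e q := by
    have h := congrArg (Polynomial.eval (q : ℤ)) (prod_cyclotomic_eq_X_pow_sub_one hd ℤ)
    simp only [eval_prod, eval_sub, eval_pow, eval_X, eval_one] at h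
    have h2 := congrArg Int.natAbs h
    rw [← Int.natAbsHom_apply, map_prod] at h2
    simp only [Int.natAbsHom_apply] at h2
    rw [show ((q : ℤ) ^ d - 1).natAbs = q ^ d - 1 by
      rw [show (q : ℤ) ^ d - 1 = ((q ^ d - 1 : ℕ) : ℤ) by
        rw [Nat.cast_sub (Nat.one_le_pow _ _ (by omega))]; push_cast; ring]
      rfl] at h2
    exact h2.symm
  have hne : ∀ e ∈ d.divisors, Lib.PPD.cyc e q ≠ 0 := fun e he hc => by
    have he' := Nat.pos_of_mem_divisors he
    have h1 := Lib.PPD.cyc_dvd_pow_sub_one he' hq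
    rw [hc, zero_dvd_iff] at h1
    have : q ≤ q ^ e := Nat.le_self_pow (by omega) q
    omega
  rw [hprod, Nat.factorization_prod hne, Finsupp.coe_finset_sum, Finset.sum_apply,
    Finset.sum_eq_single d]
  · rfl
  · intro e he hne'
    refine Nat.factorization_eq_zero_of_not_dvd fun hc => ?_
    have h1 := hc.trans (Lib.PPD.cyc_dvd_pow_sub_one (Nat.pos_of_mem_divisors he) hq)
    have h2 := (Lib.PPD.dvd_pow_sub_one_iff_orderOf_dvd (by omega) e).1 h1
    exact hne' (Nat.dvd_antisymm (Nat.dvd_of_mem_divisors he) h2)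
  · exact fun h => absurd (Nat.mem_divisors_self d hd.ne') h

/-- For `0 < i < r` the `r`-part of `q^i - 1` is trivial or that of `Φ_d(q)`. -/
theorem factorization_pow_sub_one (hq : 2 ≤ q) (hrq : ¬ r ∣ q) {i : ℕ} (hi : 0 < i) (hir : i < r) :
    (q ^ i - 1).factorization r = if orderOf (q : ZMod r) ∣ i then rExp r q else 0 := by
  split_ifs with hdi
  swap
  · exact Nat.factorization_eq_zero_of_not_dvd fun h =>
      hdi ((Lib.PPD.dvd_pow_sub_one_iff_orderOf_dvd (by omega) i).1 h)
  obtain ⟨hd, -⟩ := orderOf_pos_dvd hrq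
  obtain ⟨m, hm⟩ := hdi
  set d := orderOf (q : ZMod r) with hdd
  have hmul : q ^ i - 1 = (∑ j ∈ Finset.range m, (q ^ d) ^ j) * (q ^ d - 1) := by
    rw [hm, pow_mul, geom_sum_mul_of_one_le (Nat.one_le_pow _ _ (by omega))]
  have hmr : m < r := by
    have : m ≤ d * m := Nat.le_mul_of_pos_left m hd
    omega
  have hm0 : 0 < m := Nat.pos_of_ne_zero fun h => by subst h; omega
  have hsum : ¬ r ∣ ∑ j ∈ Finset.range m, (q ^ d) ^ j := fun h => by
    rw [← ZMod.natCast_eq_zero_iff] at h
    push_cast at h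
    rw [hdd, pow_orderOf_eq_one] at h
    simp at h
    rw [ZMod.natCast_eq_zero_iff] at h
    exact absurd (Nat.le_of_dvd hm0 h) (by omega)
  have h2 : 2 ≤ q ^ d := hq.trans (Nat.le_self_pow hd.ne' q)
  rw [hmul, Nat.factorization_mul (fun h => hsum (by rw [h]; exact dvd_zero r)) (by omega), Finsupp.add_apply,
    Nat.factorization_eq_zero_of_not_dvd hsum, zero_add, factorization_pow_order_sub_one hq hrq]

theorem factorization_card_GL {F : Type*} [Field F] [Fintype F] (hF : Fintype.card F = q) {n : ℕ}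
    (hrn : n < r) (hrq : ¬ r ∣ q) :
    (Nat.card (GL (Fin n) F)).factorization r = n / orderOf (q : ZMod r) * rExp r q := by
  have hq : 2 ≤ q := hF ▸ Fintype.one_lt_card
  rw [Lib.LinGroup.card_GL_eq_pow_mul, hF]
  have hne : ∀ i ∈ (Finset.univ : Finset (Fin n)), q ^ (n - (i : ℕ)) - 1 ≠ 0 := fun i _ => by
    have := i.isLt
    have := hq.trans (Nat.le_self_pow (show n - (i : ℕ) ≠ 0 by omega) q)
    omega
  rw [Nat.factorization_mul (pow_ne_zero _ (by omega)) (Finset.prod_ne_zero_iff.2 hne), Finsupp.add_apply,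
    Nat.factorization_eq_zero_of_not_dvd (fun h => hrq ((Fact.out : r.Prime).dvd_of_dvd_pow h)), zero_add,
    Nat.factorization_prod hne, Finsupp.coe_finset_sum, Finset.sum_apply]
  have h1 : ∀ i : Fin n, (q ^ (n - (i : ℕ)) - 1).factorization r =
      if orderOf (q : ZMod r) ∣ n - (i : ℕ) then rExp r q else 0 := fun i => by
    have := i.isLt
    exact factorization_pow_sub_one hq hrq (by omega) (by omega)
  rw [Finset.sum_congr rfl (fun i _ => h1 i),
    Fin.sum_univ_eq_sum_range (fun i => if orderOf (q : ZMod r) ∣ n - i then rExp r q else 0) n,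
    ← Finset.sum_filter, Finset.sum_const, smul_eq_mul, ← Nat.Ioc_filter_dvd_card_eq_div n]
  congr 1
  refine Finset.card_bij (fun i _ => n - i) ?_ ?_ ?_
  · intro i hi
    simp only [Finset.mem_filter, Finset.mem_range, Finset.mem_Ioc] at hi ⊢
    exact ⟨by omega, hi.2⟩
  · intro i hi j hj h
    simp only [Finset.mem_filter, Finset.mem_range] at hi hj
    omega
  · intro j hj
    simp only [Finset.mem_filter, Finset.mem_Ioc] at hj
    refine ⟨n - j, ?_, by omega⟩
    simp only [Finset.mem_filter, Finset.mem_range]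
    exact ⟨by omega, by rw [show n - (n - j) = j by omega]; exact hj.2⟩

/-- A cyclic group with a cyclic subgroup of order `m`. -/
theorem exists_hom_zmod {C : Type*} [Group C] [IsCyclic C] [Finite C] {m : ℕ} (hm : m ∣ Nat.card C) :
    ∃ f : Multiplicative (ZMod m) →* C, Function.Injective f := by
  obtain ⟨g, hg⟩ := IsCyclic.exists_generator (α := C)
  have ho : orderOf g = Nat.card C := orderOf_eq_card_of_forall_mem_zpowers hg
  have ho' : orderOf (g ^ (Nat.card C / m)) = m := by
    rw [orderOf_pow_of_dvd (Nat.div_ne_zero_iff_of_dvd hm |>.2 ⟨Nat.card_pos.ne',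
      fun h => by rw [h, zero_dvd_iff] at hm; exact Nat.card_pos.ne' hm⟩) (by rw [ho]; exact Nat.div_dvd_of_dvd hm), ho,
      Nat.div_div_self hm Nat.card_pos.ne']
  have hc : Nat.card (Subgroup.zpowers (g ^ (Nat.card C / m))) = m := by rw [Nat.card_zpowers, ho']
  let e := zmodCyclicMulEquiv (inferInstance : IsCyclic (Subgroup.zpowers (g ^ (Nat.card C / m))))
  rw [hc] at e
  exact ⟨(Subgroup.zpowers _).subtype.comp e.toMonoidHom, Subtype.val_injective.comp e.injective⟩

/-- The `r`-part of a maximal torus of `GL_n(q)`. -/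
theorem exists_torus_hom {F : Type*} [Field F] [Fintype F] (hF : Fintype.card F = q) {n : ℕ} (hrq : ¬ r ∣ q) :
    ∃ f : (Fin (n / orderOf (q : ZMod r)) → Multiplicative (ZMod (r ^ rExp r q))) →* GL (Fin n) F,
      Function.Injective f := by
  have hq : 2 ≤ q := hF ▸ Fintype.one_lt_card
  obtain ⟨hd, -⟩ := orderOf_pos_dvd hrq
  set d := orderOf (q : ZMod r) with hdd
  obtain ⟨p, hp⟩ := CharP.exists F
  have : Fact p.Prime := ⟨CharP.char_is_prime F p⟩
  have : NeZero d := ⟨hd.ne'⟩
  let K := FiniteField.Extension F p d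
  let a := n / d
  obtain ⟨f0, hf0⟩ := exists_hom_zmod (C := Kˣ) (m := r ^ rExp r q) (by
    rw [Nat.card_units, FiniteField.natCard_extension, Nat.card_eq_fintype_card, hF,
      ← factorization_pow_order_sub_one hq hrq]
    exact Nat.ordProj_dvd _ _)
  let W := (Fin a → K) × (Fin (n - a * d) → F)
  have hfin : Module.finrank F W = Module.finrank F (Fin n → F) := by
    rw [Module.finrank_prod, Module.finrank_pi_fintype, Module.finrank_fintype_fun_eq_card,
      Module.finrank_fintype_fun_eq_card, Finset.sum_const, Finset.card_univ, Fintype.card_fin,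
      Fintype.card_fin, Fintype.card_fin, FiniteField.finrank_extension, smul_eq_mul]
    have : a * d ≤ n := Nat.div_mul_le_self n d
    omega
  let e : W ≃ₗ[F] (Fin n → F) := LinearEquiv.ofFinrankEq W (Fin n → F) hfin
  let ψ : (Fin a → K) →* Module.End F W :=
    { toFun := fun x => (Algebra.lmul F (Fin a → K) x).prodMap LinearMap.id
      map_one' := by ext <;> simp
      map_mul' := fun x y => by ext <;> simp [mul_assoc] }
  let φ : (Fin a → K) →* Matrix (Fin n) (Fin n) F :=
    ((LinearMap.toMatrixAlgEquiv' (R := F)).toMonoidHom.comp (e.conjAlgEquiv F).toMonoidHom).comp ψ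
  have hφ : Function.Injective φ := fun x y hxy => by
    have h1 : ψ x = ψ y :=
      (e.conjAlgEquiv F).injective ((LinearMap.toMatrixAlgEquiv' (R := F)).injective hxy)
    have h2 := congrArg (fun f : Module.End F W => (f (1, 0)).1) h1
    have h3 : x * 1 = y * 1 := h2
    simpa using h3
  refine ⟨(Units.map φ).comp ((MulEquiv.piUnits.symm.toMonoidHom).comp (MonoidHom.piMap fun _ => f0)),
    (Units.map_injective hφ).comp (MulEquiv.piUnits.symm.injective.comp ?_)⟩
  exact fun x y hxy => funext fun i => hf0 (congrFun hxy i)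

/-- An injective image of a group of the Sylow order is a Sylow subgroup. -/
theorem sylow_equiv_of_injective {G A : Type*} [Group G] [Finite G] [Group A] (f : A →* G)
    (hf : Function.Injective f) (hc : Nat.card A = r ^ (Nat.card G).factorization r) (P : Sylow r G) :
    Nonempty (↥(P : Subgroup G) ≃* A) := by
  have hcr : Nat.card f.range = r ^ (Nat.card G).factorization r := by
    rw [← hc]
    exact (Nat.card_congr (MonoidHom.ofInjective hf).toEquiv).symm
  exact ⟨(P.equiv (Sylow.ofCard f.range hcr)).trans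
    ((MulEquiv.subgroupCongr (Sylow.coe_ofCard f.range hcr)).trans (MonoidHom.ofInjective hf).symm)⟩

end Cfsg.Agent.Lib.CrossChar
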